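import Groth.Agent.RSpace.Pull
import Mathlib.RingTheory.Flat.EquationalCriterion

/-! Flatness of stalk maps from flatness on a basis. -/

set_option autoImplicit false
set_option backward.isDefEq.respectTransparency false
set_option linter.style.haveILetI false

universe u

open CategoryTheory Opposite TopologicalSpace

namespace Groth.Agent.RSpace

variable {T S : TopCat.{u}} {O : Sheaf (Opens.grothendieckTopology T) CommRingCat.{u}}
  {O' : Sheaf (Opens.grothendieckTopology S) CommRingCat.{u}} (φ : T ⟶ S)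
  (sharp : O' ⟶ (TopCat.Sheaf.pushforward CommRingCat.{u} φ).obj O)

/-- The map on sections. -/
noncomputable def sm (V : Opens S) : O'.obj.obj (op V) →+* O.obj.obj (op ((Opens.map φ).obj V)) :=
  (sharp.hom.app (op V)).hom

/-- A morphism of ringed spaces flat on a basis has flat stalk maps. -/
theorem flat_stalkSharp_of_basis (P : Opens S → Prop)
    (hP : ∀ (U : Opens S) (s : S), s ∈ U → ∃ V, P V ∧ s ∈ V ∧ V ≤ U)
    (hQ : ∀ (U : Opens T) (t : T), t ∈ U → ∃ V, P V ∧ t ∈ (Opens.map φ).obj V ∧ (Opens.map φ).obj V ≤ U)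
    (hflat : ∀ V, P V → (sharp.hom.app (op V)).hom.Flat) (x : T) :
    (stalkSharp φ sharp x).hom.Flat := by
  letI := (stalkSharp φ sharp x).hom.toAlgebra
  rw [RingHom.Flat]
  refine Module.Flat.of_forall_isTrivialRelation fun {l} {f} {m} hfm => ?_
  choose Uf hUf rf hrf using fun i => TopCat.Presheaf.exists_germ_eq O'.obj (x := φ x) (f i)
  choose Um hUm rm hrm using fun i => TopCat.Presheaf.exists_germ_eq O.obj (x := x) (m i)
  have hx0 : φ x ∈ (⊤ : Opens S) ⊓ (Finset.univ.inf Uf) := ⟨trivial, by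
    exact Finset.inf_induction (p := fun U : Opens S => φ x ∈ U) trivial (fun _ h₁ _ h₂ => ⟨h₁, h₂⟩) fun i _ => hUf i⟩
  obtain ⟨V₁, hV₁, hx₁, hle₁⟩ := hQ (Finset.univ.inf Um) x ((Finset.inf_induction (p := fun U : Opens T => x ∈ U) trivial (fun _ h₁ _ h₂ => ⟨h₁, h₂⟩) fun i _ => hUm i))
  obtain ⟨V, hV, hxV, hle⟩ := hP (V₁ ⊓ Finset.univ.inf Uf) (φ x) ⟨hx₁, hx0.2⟩
  have hUV : ∀ i, V ≤ Uf i := fun i => hle.trans (inf_le_right.trans (Finset.inf_le (Finset.mem_univ i)))
  have hUV' : ∀ i, (Opens.map φ).obj V ≤ Um i := fun i =>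
    le_trans (show (Opens.map φ).obj V ≤ (Opens.map φ).obj V₁ from fun t ht => (hle ht).1)
      (hle₁.trans (Finset.inf_le (Finset.mem_univ i)))
  let a : Fin l → O'.obj.obj (op V) := fun i => O'.obj.map (homOfLE (hUV i)).op (rf i)
  let b : Fin l → O.obj.obj (op ((Opens.map φ).obj V)) := fun i => O.obj.map (homOfLE (hUV' i)).op (rm i)
  have ha : ∀ i, TopCat.Presheaf.germ O'.obj V (φ x) hxV (a i) = f i := fun i =>
    (TopCat.Presheaf.germ_res_apply O'.obj (homOfLE (hUV i)) (φ x) hxV (rf i)).trans (hrf i)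
  have hb : ∀ i, TopCat.Presheaf.germ O.obj ((Opens.map φ).obj V) x hxV (b i) = m i := fun i =>
    (TopCat.Presheaf.germ_res_apply O.obj (homOfLE (hUV' i)) x hxV (rm i)).trans (hrm i)
  have h0 : TopCat.Presheaf.germ O.obj ((Opens.map φ).obj V) x hxV (∑ i, sm φ sharp V (a i) * b i) =
      TopCat.Presheaf.germ O.obj ((Opens.map φ).obj V) x hxV 0 := by
    rw [map_zero, ← hfm, map_sum]
    refine Finset.sum_congr rfl fun i _ => ?_
    rw [map_mul, hb i]
    exact congrArg (· * m i) ((stalkSharp_germ φ sharp x V hxV (a i)).symm.trans (congrArg _ (ha i)))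
  obtain ⟨W, hxW, i₁, i₂, heq⟩ := TopCat.Presheaf.germ_eq O.obj x hxV hxV _ _ h0
  obtain ⟨V₂, hV₂, hx₂, hle₂⟩ := hQ W x hxW
  obtain ⟨V', hV', hxV', hle'⟩ := hP (V₂ ⊓ V) (φ x) ⟨hx₂, hxV⟩
  have hW : (Opens.map φ).obj V' ≤ W := le_trans (show (Opens.map φ).obj V' ≤ (Opens.map φ).obj V₂ from fun t ht => (hle' ht).1) hle₂
  let j : V' ⟶ V := homOfLE (hle'.trans inf_le_right)
  have hrel : ∑ i, sm φ sharp V' (O'.obj.map j.op (a i)) * O.obj.map ((Opens.map φ).map j).op (b i) = 0 := by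
    have := congrArg (O.obj.map (homOfLE hW).op) heq
    rw [map_zero, map_zero, ← ConcreteCategory.comp_apply, ← O.obj.map_comp,
      show i₁.op ≫ (homOfLE hW).op = ((Opens.map φ).map j).op from Subsingleton.elim _ _, map_sum] at this
    refine Eq.trans (Finset.sum_congr rfl fun i _ => ?_) this
    rw [map_mul]
    exact congrArg (· * _) (NatTrans.naturality_apply sharp.hom j.op (a i))
  letI := (sm φ sharp V').toAlgebra
  haveI : Module.Flat (O'.obj.obj (op V')) (O.obj.obj (op ((Opens.map φ).obj V'))) := hflat V' hV'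
  obtain ⟨k, c, y, hy, hc⟩ := Module.Flat.isTrivialRelation_of_sum_smul_eq_zero (f := fun i => O'.obj.map j.op (a i))
    (x := fun i => O.obj.map ((Opens.map φ).map j).op (b i)) hrel
  refine ⟨k, fun i j => TopCat.Presheaf.germ O'.obj V' (φ x) hxV' (c i j),
    fun j => TopCat.Presheaf.germ O.obj ((Opens.map φ).obj V') x hxV' (y j), fun i => ?_, fun q => ?_⟩
  · refine ((hb i).symm.trans (TopCat.Presheaf.germ_res_apply O.obj ((Opens.map φ).map j) x hxV' (b i)).symm).trans
      ((congrArg (TopCat.Presheaf.germ O.obj ((Opens.map φ).obj V') x hxV') (hy i)).trans ?_)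
    rw [map_sum]
    refine Finset.sum_congr rfl fun q _ => ?_
    show _ = stalkSharp φ sharp x _ * _
    rw [stalkSharp_germ φ sharp x V' hxV' (c i q), ← map_mul]
    rfl
  · refine Eq.trans (Finset.sum_congr rfl fun i _ => ?_)
      ((map_sum (TopCat.Presheaf.germ O'.obj V' (φ x) hxV').hom _ _).symm.trans
        ((congrArg _ (hc q)).trans (map_zero _)))
    rw [map_mul, ← ha i, ← TopCat.Presheaf.germ_res_apply O'.obj j (φ x) hxV' (a i)]

end Groth.Agent.RSpace
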