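import Groth.Agent.RSpace.Stalk
import Groth.Prelude.Def_ModSite2
import Mathlib.Algebra.Category.ModuleCat.ChangeOfRings
import Mathlib.Algebra.Category.ModuleCat.EpiMono
import Mathlib.Algebra.Homology.ShortComplex.ExactFunctor
import Mathlib.CategoryTheory.Adjunction.Additive
import Mathlib.RingTheory.RingHom.Flat

/-! Stalks of inverse images on ringed spaces; flatness from flatness of stalks. -/

set_option autoImplicit false
set_option backward.isDefEq.respectTransparency false
set_option backward.defeqAttrib.useBackward true
set_option linter.style.haveILetI false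

universe u

open CategoryTheory CategoryTheory.Limits Opposite TopologicalSpace

namespace Groth.Agent.RSpace

variable {T S : TopCat.{u}} {O : Sheaf (Opens.grothendieckTopology T) CommRingCat.{u}}
  {O' : Sheaf (Opens.grothendieckTopology S) CommRingCat.{u}} (φ : T ⟶ S)
  (sharp : O' ⟶ (TopCat.Sheaf.pushforward CommRingCat.{u} φ).obj O) (x : T)

/-- The map of stalks. -/
noncomputable def stalkSharp : stk O' (φ x) ⟶ stk O x :=
  (TopCat.Presheaf.stalkFunctor CommRingCat.{u} (φ x)).map sharp.hom ≫
    TopCat.Presheaf.stalkPushforward CommRingCat.{u} φ O.obj x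

theorem stalkSharp_germ (U : Opens S) (hx : φ x ∈ U) (r : O'.obj.obj (op U)) :
    stalkSharp φ sharp x (TopCat.Presheaf.germ O'.obj U (φ x) hx r) =
      TopCat.Presheaf.germ O.obj ((Opens.map φ).obj U) x hx (sharp.hom.app (op U) r) := by
  refine (congrArg (TopCat.Presheaf.stalkPushforward CommRingCat.{u} φ O.obj x)
    (TopCat.Presheaf.stalkFunctor_map_germ_apply U (φ x) hx sharp.hom r)).trans ?_
  exact ConcreteCategory.congr_hom (TopCat.Presheaf.stalkPushforward_germ CommRingCat.{u} φ O.obj U x hx)
    (sharp.hom.app (op U) r)

variable (f : ModSite.RMor O O') (hf : f = ModSite.RMor.ofFlat (Opens.map φ) sharp)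

/-- The direct image along the continuous map. -/
noncomputable abbrev pushR : ModSite.Mod O ⥤ ModSite.Mod O' :=
  (ModSite.RMor.ofFlat (Opens.map φ) sharp).push

/-- Pushforward of a skyscraper is a skyscraper. -/
noncomputable def skyPushSec (A : ModuleCat.{u} (stk O x)) (U : Opens S) :
    ((pushR φ sharp).obj ((sky x).obj A)).val.obj (op U) ≅
      ((skyP (φ x)).obj ((ModuleCat.restrictScalars (stalkSharp φ sharp x).hom).obj A)).obj (op U) where
  hom := ModuleCat.ofHom
    (X := ((pushR φ sharp).obj ((sky x).obj A)).val.obj (op U))
    (Y := ((skyP (φ x)).obj ((ModuleCat.restrictScalars (stalkSharp φ sharp x).hom).obj A)).obj (op U))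
    { toFun := fun s => smk (x := φ x) (A := (ModuleCat.restrictScalars (stalkSharp φ sharp x).hom).obj A)
        fun h => sval (A := A) (U := (Opens.map φ).obj U) s h
      map_add' := fun _ _ => rfl
      map_smul' := fun r s => sval_ext (A := (ModuleCat.restrictScalars (stalkSharp φ sharp x).hom).obj A) (U := U)
        fun h => congrArg (fun a : stk O x => a • sval (A := A) (U := (Opens.map φ).obj U) s h)
          (stalkSharp_germ φ sharp x U h r).symm }
  inv := ModuleCat.ofHom
    (X := ((skyP (φ x)).obj ((ModuleCat.restrictScalars (stalkSharp φ sharp x).hom).obj A)).obj (op U))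
    (Y := ((pushR φ sharp).obj ((sky x).obj A)).val.obj (op U))
    { toFun := fun s => smk (x := x) (A := A) (U := (Opens.map φ).obj U)
        fun h => sval (A := (ModuleCat.restrictScalars (stalkSharp φ sharp x).hom).obj A) (U := U) s h
      map_add' := fun _ _ => rfl
      map_smul' := fun r s => sval_ext (A := A) (U := (Opens.map φ).obj U)
        fun h => congrArg (fun a : stk O x => a •
          (sval (A := (ModuleCat.restrictScalars (stalkSharp φ sharp x).hom).obj A) (U := U) s h : A))
          (stalkSharp_germ φ sharp x U h r) }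
  hom_inv_id := rfl
  inv_hom_id := rfl

/-- Pushforward of skyscrapers, naturally. -/
noncomputable def skyPushIso :
    sky x ⋙ pushR φ sharp ≅ ModuleCat.restrictScalars (stalkSharp φ sharp x).hom ⋙ sky (φ x) :=
  NatIso.ofComponents
    (fun A => (SheafOfModules.fullyFaithfulForget.{u} (ModSite.ringSh O')).preimageIso
      (PresheafOfModules.isoMk (fun U => skyPushSec φ sharp x A U.unop)
        (fun U V i => ModuleCat.hom_ext (LinearMap.ext fun _ => rfl)) :))
    (fun {A B} g => (SheafOfModules.fullyFaithfulForget.{u} (ModSite.ringSh O')).map_injective (by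
      simp only [Functor.map_comp, Functor.FullyFaithful.map_preimage, Functor.FullyFaithful.preimageIso_hom]
      rfl))

/-- The stalk of an inverse image is the extension of scalars of the stalk. -/
noncomputable def pullStalkIso :
    (ModSite.RMor.ofFlat (Opens.map φ) sharp).pull ⋙ stalkF O x ≅
      stalkF O' (φ x) ⋙ ModuleCat.extendScalars (stalkSharp φ sharp x).hom :=
  (((ModSite.RMor.ofFlat (Opens.map φ) sharp).adj.comp (stalkAdj O x)).ofNatIsoRight
      (skyPushIso φ sharp x)).leftAdjointUniq
    ((stalkAdj O' (φ x)).comp (ModuleCat.extendRestrictScalarsAdj (stalkSharp φ sharp x).hom))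

theorem injective_stalk_of_mono {M N : ModSite.Mod O'} (g : M ⟶ N) [Mono g] (y : S) :
    Function.Injective ((stalkF O' y).map g) := by
  haveI : Mono ((SheafOfModules.forget.{u} (ModSite.ringSh O')).map g) := inferInstance
  haveI : Mono ((PresheafOfModules.toPresheaf _).map ((SheafOfModules.forget.{u} (ModSite.ringSh O')).map g)) :=
    inferInstance
  refine TopCat.Presheaf.stalkFunctor_map_injective_of_app_injective
    (f := (PresheafOfModules.toPresheaf _).map ((SheafOfModules.forget.{u} (ModSite.ringSh O')).map g)) (fun U => ?_) y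
  exact (AddCommGrpCat.mono_iff_injective _).1 (inferInstance : Mono
    (((PresheafOfModules.toPresheaf _).map ((SheafOfModules.forget.{u} (ModSite.ringSh O')).map g)).app (op U)))

theorem mono_of_injective_stalk {M N : ModSite.Mod O} (g : M ⟶ N)
    (h : ∀ y : T, Function.Injective ((stalkF O y).map g)) : Mono g := by
  refine (SheafOfModules.forget.{u} (ModSite.ringSh O)).mono_of_mono_map ?_
  refine (PresheafOfModules.toPresheaf _).mono_of_mono_map ?_
  refine (NatTrans.mono_iff_mono_app _).2 fun U => (AddCommGrpCat.mono_iff_injective _).2 fun a b hab => ?_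
  refine TopCat.Presheaf.section_ext ((SheafOfModules.toSheaf.{u} (ModSite.ringSh O)).obj M) U.unop a b fun y hy => ?_
  refine h y ?_
  refine (stalkP_map_germP ((toP O).map g) U.unop hy a).trans ?_
  exact (congrArg (germP y N.val U.unop hy) hab).trans (stalkP_map_germP ((toP O).map g) U.unop hy b).symm

include hf in
/-- A morphism of ringed spaces with flat stalk maps is flat. -/
theorem isFlat_of_flat_stalk (h : ∀ y : T, (stalkSharp φ sharp y).hom.Flat) : f.IsFlat := by
  subst hf
  haveI : (ModSite.RMor.ofFlat (Opens.map φ) sharp).pull.Additive :=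
    Adjunction.left_adjoint_additive (ModSite.RMor.ofFlat (Opens.map φ) sharp).adj
  haveI : (ModSite.RMor.ofFlat (Opens.map φ) sharp).pull.PreservesMonomorphisms := ⟨fun {M N} g _ => by
    refine mono_of_injective_stalk _ fun y => ?_
    have key : Function.Injective ((ModuleCat.extendScalars (stalkSharp φ sharp y).hom).map
        ((stalkF O' (φ y)).map g)) := by
      letI := (stalkSharp φ sharp y).hom.toAlgebra
      haveI : Module.Flat (stk O' (φ y)) (stk O y) := h y
      exact Module.Flat.lTensor_preserves_injective_linearMap ((stalkF O' (φ y)).map g).hom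
        (injective_stalk_of_mono g (φ y))
    have e := (pullStalkIso φ sharp y).hom.naturality g
    intro a b hab
    refine (ModuleCat.mono_iff_injective ((pullStalkIso φ sharp y).hom.app M)).1 inferInstance ?_
    refine key ?_
    exact ((ConcreteCategory.congr_hom e a).symm.trans
      (congrArg ((pullStalkIso φ sharp y).hom.app N) hab)).trans (ConcreteCategory.congr_hom e b)⟩
  haveI := (ModSite.RMor.ofFlat (Opens.map φ) sharp).adj.leftAdjoint_preservesColimits
  have e := (Functor.preservesFiniteLimits_tfae (ModSite.RMor.ofFlat (Opens.map φ) sharp).pull).out 0 3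
  refine e.1 fun E hE => ⟨?_, ?_⟩
  · have e' := (Functor.preservesFiniteColimits_tfae (ModSite.RMor.ofFlat (Opens.map φ) sharp).pull).out 3 0
    exact (e'.1 inferInstance E hE).1
  · haveI := hE.mono_f
    infer_instance

end Groth.Agent.RSpace
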