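import Groth.Agent.FModLib.HomBasis
import Groth.Agent.RSpace.FlatBasis

/-!
# Recognising inverse images on ringed spaces by sections on a basis

A morphism `M ⟶ f_* N₀` exhibits `N₀` as `f^* M` if, on pairs of basic opens `V ≤ f⁻¹ U`, the images of
the sections of `M` generate and all relations between them come from `M`.
-/

set_option autoImplicit false
set_option backward.isDefEq.respectTransparency false
set_option linter.style.haveILetI false
set_option linter.unusedSectionVars false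

universe u

open CategoryTheory CategoryTheory.Limits Opposite TopologicalSpace
open Groth.Agent.DerCompLib Groth.Agent.FModLib

namespace Groth.Agent.RSpace

variable {T S : TopCat.{u}} {O : Sheaf (Opens.grothendieckTopology T) CommRingCat.{u}}
  {O' : Sheaf (Opens.grothendieckTopology S) CommRingCat.{u}} (φ : T ⟶ S)
  (sharp : O' ⟶ (TopCat.Sheaf.pushforward CommRingCat.{u} φ).obj O)

/-- The value of a morphism to a direct image on a smaller open. -/
noncomputable def pvR {M : ModSite.Mod O'} {N : ModSite.Mod O} (q : M ⟶ (pushR φ sharp).obj N) {U : Opens S}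
    {V : Opens T} (i : V ≤ (Opens.map φ).obj U) : Sec M U →+ Sec N V :=
  (mRes N i).comp (show Sec M U →+ Sec N ((Opens.map φ).obj U) from (secMap q U).toAddMonoidHom)

theorem pvR_smul {M : ModSite.Mod O'} {N : ModSite.Mod O} (q : M ⟶ (pushR φ sharp).obj N) {U : Opens S}
    {V : Opens T} (i : V ≤ (Opens.map φ).obj U) (r : O'.obj.obj (op U)) (x : Sec M U) :
    pvR φ sharp q i (r • x) = oRes O i (sm φ sharp U r) • pvR φ sharp q i x :=
  (congrArg (mRes N i) ((secMap q U).map_smul r x)).trans (mRes_smul i _ _)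

theorem pvR_mRes {M : ModSite.Mod O'} {N : ModSite.Mod O} (q : M ⟶ (pushR φ sharp).obj N) {U U' : Opens S}
    {V : Opens T} (j : U' ≤ U) (i : V ≤ (Opens.map φ).obj U') (x : Sec M U) :
    pvR φ sharp q i (mRes M j x) = pvR φ sharp q (fun t ht => j (i ht) : V ≤ (Opens.map φ).obj U) x :=
  (congrArg (mRes N i) (secMap_secRes' q (homOfLE j) x)).trans (mRes_mRes (M := N) _ i _)

theorem mRes_pvR {M : ModSite.Mod O'} {N : ModSite.Mod O} (q : M ⟶ (pushR φ sharp).obj N) {U : Opens S}
    {V V' : Opens T} (i : V ≤ (Opens.map φ).obj U) (j : V' ≤ V) (x : Sec M U) :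
    mRes N j (pvR φ sharp q i x) = pvR φ sharp q (j.trans i) x :=
  mRes_mRes (M := N) i j _

variable {M : ModSite.Mod O'} {N₀ : ModSite.Mod O} (ψ : M ⟶ (pushR φ sharp).obj N₀)
  (PS : Opens S → Prop) (PT : Opens T → Prop)

/-- Generators and relations on pairs of basic opens. -/
structure IsPullPres : Prop where
  span : ∀ (U : Opens S) (V : Opens T) (i : V ≤ (Opens.map φ).obj U), PS U → PT V →
    Submodule.span (O.obj.obj (op V)) (Set.range (pvR φ sharp ψ i)) = ⊤
  finite : ∀ U, PS U → Module.Finite (O'.obj.obj (op U)) (Sec M U)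
  rels : ∀ (U : Opens S) (V : Opens T) (i : V ≤ (Opens.map φ).obj U), PS U → PT V →
    ∀ {ι : Type u} [Fintype ι] (s : ι → Sec M U), Submodule.span (O'.obj.obj (op U)) (Set.range s) = ⊤ →
      ∀ (a : ι → O.obj.obj (op V)), ∑ j, a j • pvR φ sharp ψ i (s j) = 0 →
      a ∈ Submodule.span (O.obj.obj (op V))
        ((fun y => fun j => oRes O i (sm φ sharp U (y j))) '' (relsOf (O'.obj.obj (op U)) s : Set (ι → O'.obj.obj (op U))))

variable {φ sharp ψ PS PT} (H : IsPullPres φ sharp ψ PS PT) {N : ModSite.Mod O}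

include H in
theorem exists_local {U : Opens S} {V : Opens T} (i : V ≤ (Opens.map φ).obj U) (hU : PS U) (hV : PT V)
    (q : M ⟶ (pushR φ sharp).obj N) :
    ∃ β : Sec N₀ V →ₗ[O.obj.obj (op V)] Sec N V, ∀ x, β (pvR φ sharp ψ i x) = pvR φ sharp q i x := by
  classical
  let f := Finsupp.linearCombination (O.obj.obj (op V)) (pvR φ sharp ψ i)
  let g := Finsupp.linearCombination (O.obj.obj (op V)) (pvR φ sharp q i)
  have hf : LinearMap.range f = ⊤ := by rw [Finsupp.range_linearCombination]; exact H.span U V i hU hV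
  obtain ⟨S₀, hS₀⟩ := (H.finite U hU).fg_top
  have hk : LinearMap.ker f ≤ LinearMap.ker g := fun c hc => by
    have key : ∀ {N' : ModSite.Mod O} (v : Sec M U → Sec N' V),
        Finsupp.linearCombination (O.obj.obj (op V)) v c = ∑ j : ↥(c.support ∪ S₀), c j.1 • v j.1 := fun v => by
      rw [Finsupp.linearCombination_apply,
        Finset.sum_coe_sort (c.support ∪ S₀) (fun x => c x • v x)]
      exact Finsupp.sum_of_support_subset c (Finset.subset_union_left (s₂ := S₀))
        (fun x a => a • v x) (fun x _ => zero_smul _ _)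
    have hc' := (key (pvR φ sharp ψ i)).symm.trans (LinearMap.mem_ker.1 hc)
    refine LinearMap.mem_ker.2 ((key (pvR φ sharp q i)).trans ?_)
    let s : ↥(c.support ∪ S₀) → Sec M U := fun j => j.1
    have hsp : Submodule.span (O'.obj.obj (op U)) (Set.range s) = ⊤ := top_unique (hS₀.ge.trans
      (Submodule.span_mono fun x hx => ⟨⟨x, Finset.mem_union_right _ hx⟩, rfl⟩))
    have h2 := H.rels U V i hU hV s hsp (fun j => c j.1) hc'
    have h3 : (fun j : ↥(c.support ∪ S₀) => c j.1) ∈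
        LinearMap.ker (Fintype.linearCombination (O.obj.obj (op V)) fun j => pvR φ sharp q i (s j)) := by
      refine Submodule.span_le.2 ?_ h2
      rintro _ ⟨y, hy, rfl⟩
      show ∑ j, oRes O i (sm φ sharp U (y j)) • pvR φ sharp q i (s j) = 0
      rw [← map_zero (pvR φ sharp q i), ← (mem_relsOf.1 hy : ∑ j, y j • s j = 0), map_sum]
      exact Finset.sum_congr rfl fun j _ => (pvR_smul φ sharp q i (y j) _).symm
    exact h3
  have hs : Function.Surjective f := LinearMap.range_eq_top.1 hf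
  refine ⟨(LinearMap.ker f).liftQ g hk ∘ₗ (f.quotKerEquivOfSurjective hs).symm.toLinearMap, fun x => ?_⟩
  have hfx : f (Finsupp.single x 1) = pvR φ sharp ψ i x := by
    rw [Finsupp.linearCombination_single, one_smul]
  rw [← hfx]
  refine (congrArg ((LinearMap.ker f).liftQ g hk)
    ((f.quotKerEquivOfSurjective hs).symm_apply_apply (Submodule.Quotient.mk _))).trans ?_
  rw [Submodule.liftQ_apply, Finsupp.linearCombination_single, one_smul]

include H in
theorem eq_of_forall {U : Opens S} {V V' : Opens T} (i : V ≤ (Opens.map φ).obj U) (hU : PS U) (hV : PT V)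
    (j : V' ≤ V) {g₁ g₂ : Sec N₀ V →+ Sec N V'} (h₁ : ∀ a x, g₁ (a • x) = oRes O j a • g₁ x)
    (h₂ : ∀ a x, g₂ (a • x) = oRes O j a • g₂ x) (he : ∀ x, g₁ (pvR φ sharp ψ i x) = g₂ (pvR φ sharp ψ i x)) :
    g₁ = g₂ := by
  ext x
  have hx : x ∈ Submodule.span (O.obj.obj (op V)) (Set.range (pvR φ sharp ψ i)) := by
    rw [H.span U V i hU hV]; trivial
  induction hx using Submodule.span_induction with
  | mem y hy => obtain ⟨z, rfl⟩ := hy; exact he z
  | zero => rw [map_zero, map_zero]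
  | add y z _ _ hy hz => rw [map_add, map_add, hy, hz]
  | smul a y _ hy => rw [h₁, h₂, hy]

variable (hS : ∀ (U : Opens S) (s : S), s ∈ U → ∃ V, PS V ∧ s ∈ V ∧ V ≤ U)
  (hT : ∀ (U : Opens T) (t : T), t ∈ U → ∃ V, PT V ∧ t ∈ V ∧ V ≤ U)

include H hS hT in
set_option maxHeartbeats 1000000 in
/-- The morphism exhibits the inverse image. -/
theorem bijective_comp (N : ModSite.Mod O) :
    Function.Bijective fun α : N₀ ⟶ N => ψ ≫ (pushR φ sharp).map α := by
  let P : Opens T → Prop := fun V => PT V ∧ ∃ U, PS U ∧ V ≤ (Opens.map φ).obj U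
  have hb : ∀ (O₁ : Opens T) (t : T), t ∈ O₁ → ∃ V, P V ∧ t ∈ V ∧ V ≤ O₁ := fun O₁ t ht => by
    obtain ⟨U, hU, htU, -⟩ := hS ⊤ (φ t) trivial
    obtain ⟨V, hV, htV, hle⟩ := hT (O₁ ⊓ (Opens.map φ).obj U) t ⟨ht, htU⟩
    exact ⟨V, ⟨hV, U, hU, hle.trans inf_le_right⟩, htV, hle.trans inf_le_left⟩
  have hev : ∀ (α : N₀ ⟶ N) {U : Opens S} {V : Opens T} (i : V ≤ (Opens.map φ).obj U) (x : Sec M U),
      pvR φ sharp (ψ ≫ (pushR φ sharp).map α) i x = secMap α V (pvR φ sharp ψ i x) := fun α U V i x =>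
    (secMap_mRes α i _).symm
  refine ⟨fun α α' he => ?_, fun q => ?_⟩
  · apply SheafOfModules.hom_ext
    apply PresheafOfModules.hom_ext
    intro W
    refine ModuleCat.hom_ext (LinearMap.ext fun x => sec_ext_basis hb (N := N) _ _ ?_)
    rintro V j ⟨hV, U, hU, i⟩
    show mRes N j (secMap α W.unop x) = mRes N j (secMap α' W.unop x)
    rw [← secMap_mRes, ← secMap_mRes]
    have h0 := eq_of_forall H i hU hV le_rfl
      (g₁ := (secMap α V).toAddMonoidHom) (g₂ := (secMap α' V).toAddMonoidHom)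
      (fun a y => by rw [show oRes O (le_refl V) a = a from ConcreteCategory.congr_hom (O.obj.map_id (op V)) a]; exact map_smul (secMap α V) a y)
      (fun a y => by rw [show oRes O (le_refl V) a = a from ConcreteCategory.congr_hom (O.obj.map_id (op V)) a]; exact map_smul (secMap α' V) a y)
      fun m => (hev α i m).symm.trans ((congrArg (fun r => pvR φ sharp r i m) he).trans (hev α' i m))
    exact DFunLike.congr_fun h0 (mRes N₀ j x)
  choose β hβ using fun (U : Opens S) (V : Opens T) (i : V ≤ (Opens.map φ).obj U) (hU : PS U) (hV : PT V) =>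
    exists_local H i hU hV q
  -- compatibility with restriction on both sides
  have hres : ∀ (U U' : Opens S) (V V' : Opens T) (i : V ≤ (Opens.map φ).obj U) (i' : V' ≤ (Opens.map φ).obj U')
      (hU : PS U) (hU' : PS U') (hV : PT V) (hV' : PT V') (j : V' ≤ V), U' ≤ U →
      ∀ x, mRes N j (β U V i hU hV x) = β U' V' i' hU' hV' (mRes N₀ j x) := by
    intro U U' V V' i i' hU hU' hV hV' j k x
    refine DFunLike.congr_fun (eq_of_forall H i hU hV j
      (g₁ := (mRes N j).comp (β U V i hU hV).toAddMonoidHom)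
      (g₂ := (β U' V' i' hU' hV').toAddMonoidHom.comp (mRes N₀ j)) (fun a y => ?_) (fun a y => ?_) fun m => ?_) x
    · show mRes N _ (β U V i hU hV (a • y)) = _
      rw [map_smul, mRes_smul]
      rfl
    · show β U' V' i' hU' hV' (mRes _ _ (a • y)) = _
      rw [mRes_smul, map_smul]
      rfl
    · show mRes N _ (β U V i hU hV (pvR φ sharp ψ i m)) = β U' V' i' hU' hV' (mRes _ _ (pvR φ sharp ψ i m))
      rw [hβ, mRes_pvR, mRes_pvR, ← pvR_mRes φ sharp q k i' m, ← pvR_mRes φ sharp ψ k i' m, hβ]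
  -- independence of the open of the base
  have hind : ∀ (U U' : Opens S) (V : Opens T) (i : V ≤ (Opens.map φ).obj U) (i' : V ≤ (Opens.map φ).obj U')
      (hU : PS U) (hU' : PS U') (hV : PT V) (x), β U V i hU hV x = β U' V i' hU' hV x := by
    intro U U' V i i' hU hU' hV x
    refine sec_ext_basis (N := N) (P := fun W => PT W ∧ (W ≤ V → ∃ U'', PS U'' ∧ U'' ≤ U ⊓ U' ∧ W ≤ (Opens.map φ).obj U''))
      (fun O₁ t ht => ?_) _ _ ?_
    · by_cases htV : t ∈ V
      · obtain ⟨U'', hU'', htU, hle⟩ := hS (U ⊓ U') (φ t) ⟨i htV, i' htV⟩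
        obtain ⟨W, hW, htW, hle'⟩ := hT (O₁ ⊓ (Opens.map φ).obj U'') t ⟨ht, htU⟩
        exact ⟨W, ⟨hW, fun _ => ⟨U'', hU'', hle, hle'.trans inf_le_right⟩⟩, htW, hle'.trans inf_le_left⟩
      · obtain ⟨W, hW, htW, hle'⟩ := hT O₁ t ht
        exact ⟨W, ⟨hW, fun hWV => absurd (hWV htW) htV⟩, htW, hle'⟩
    rintro W j ⟨hW, hW'⟩
    obtain ⟨U'', hU'', hle, k⟩ := hW' j
    rw [hres U U'' V W i k hU hU'' hV hW j (hle.trans inf_le_left),
      hres U' U'' V W i' k hU' hU'' hV hW j (hle.trans inf_le_right)]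
  let βV : ∀ V : Opens T, P V → Sec N₀ V →ₗ[O.obj.obj (op V)] Sec N V := fun V hV =>
    β hV.2.choose V hV.2.choose_spec.2 hV.2.choose_spec.1 hV.1
  obtain ⟨α, hα⟩ := exists_hom_of_basis hb βV fun V V' j hV hV' x => by
    show mRes N j (β _ V hV.2.choose_spec.2 _ _ x) = β _ V' hV'.2.choose_spec.2 _ _ (mRes N₀ j x)
    rw [hres _ hV.2.choose V V' _ (j.trans hV.2.choose_spec.2) hV.2.choose_spec.1 hV.2.choose_spec.1 hV.1 hV'.1 j le_rfl x]
    exact hind _ _ _ _ _ _ _ _ _
  refine ⟨α, ?_⟩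
  apply SheafOfModules.hom_ext
  apply PresheafOfModules.hom_ext
  intro U₀
  refine ModuleCat.hom_ext (LinearMap.ext fun m => ?_)
  let m' : Sec M U₀.unop := m
  refine sec_ext_basis (N := N) (P := fun W => P W ∧ (W ≤ (Opens.map φ).obj U₀.unop →
      ∃ U', PS U' ∧ U' ≤ U₀.unop ∧ W ≤ (Opens.map φ).obj U')) (fun O₁ t ht => ?_) _ _ ?_
  · by_cases htV : t ∈ (Opens.map φ).obj U₀.unop
    · obtain ⟨U', hU', htU, hle⟩ := hS U₀.unop (φ t) htV
      obtain ⟨W, hW, htW, hle'⟩ := hT (O₁ ⊓ (Opens.map φ).obj U') t ⟨ht, htU⟩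
      exact ⟨W, ⟨⟨hW, U', hU', hle'.trans inf_le_right⟩, fun _ => ⟨U', hU', hle, hle'.trans inf_le_right⟩⟩, htW,
        hle'.trans inf_le_left⟩
    · obtain ⟨W, hW, htW, hle'⟩ := hb O₁ t ht
      exact ⟨W, ⟨hW, fun hWV => absurd (hWV htW) htV⟩, htW, hle'⟩
  rintro W i ⟨hW, hW'⟩
  obtain ⟨U', hU', hle, k⟩ := hW' i
  show mRes N i (secMap α _ (secMap ψ U₀.unop m')) = pvR φ sharp q i m'
  refine (secMap_mRes α i _).symm.trans ?_
  rw [hα W hW]
  show β _ W hW.2.choose_spec.2 _ _ (pvR φ sharp ψ i m') = _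
  rw [hind _ U' W _ k _ hU' hW.1, ← pvR_mRes φ sharp ψ hle k m', hβ, pvR_mRes]

variable (f : ModSite.RMor O O') (hf : f = ModSite.RMor.ofFlat (Opens.map φ) sharp)

include H hS hT hf in
/-- The inverse image is recognised. -/
theorem exists_pull_iso (ψ' : M ⟶ f.push.obj N₀) (hψ : HEq ψ' ψ) :
    ∃ e : f.pull.obj M ≅ N₀, f.adj.homEquiv _ _ e.hom = ψ' := by
  subst hf
  obtain rfl := eq_of_heq hψ
  let F := ModSite.RMor.ofFlat (Opens.map φ) sharp
  let a := (F.adj.homEquiv M N₀).symm ψ'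
  haveI : IsIso a := isIso_of_coyoneda_map_bijective a fun N => by
    have hcomp : (F.adj.homEquiv M N) ∘ (fun x : N₀ ⟶ N => a ≫ x) = fun α => ψ' ≫ F.push.map α :=
      funext fun α => by rw [Function.comp_apply, F.adj.homEquiv_naturality_right, Equiv.apply_symm_apply]
    refine (Function.Bijective.of_comp_iff' (F.adj.homEquiv M N).bijective _).1 ?_
    rw [hcomp]
    exact bijective_comp H hS hT N
  exact ⟨asIso a, by rw [asIso_hom, Equiv.apply_symm_apply]⟩

end Groth.Agent.RSpace
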