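import Groth.Prelude.Def_ModSite
import Mathlib.Topology.Sheaves.Stalks
import Mathlib.Topology.Sheaves.SheafCondition.UniqueGluing
import Mathlib.Algebra.Category.ModuleCat.Stalk

/-! Stalks and skyscrapers for modules on a ringed space. -/

set_option autoImplicit false
set_option backward.isDefEq.respectTransparency false
set_option backward.defeqAttrib.useBackward true

universe u

open CategoryTheory CategoryTheory.Limits Opposite TopologicalSpace

namespace Groth.Agent.RSpace

variable {T : TopCat.{u}} {O : Sheaf (Opens.grothendieckTopology T) CommRingCat.{u}}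

/-- Presheaves of modules on a ringed space. -/
noncomputable abbrev PMod (O : Sheaf (Opens.grothendieckTopology T) CommRingCat.{u}) :=
  PresheafOfModules.{u} (O.obj ⋙ forget₂ CommRingCat.{u} RingCat.{u})

/-- The stalk of the structure sheaf. -/
noncomputable abbrev stk (O : Sheaf (Opens.grothendieckTopology T) CommRingCat.{u}) (x : T) : CommRingCat.{u} :=
  TopCat.Presheaf.stalk (X := T) (C := CommRingCat.{u}) O.obj x

variable (x : T)

/-- The underlying abelian presheaf. -/
noncomputable abbrev absP (P : PMod O) : TopCat.Presheaf Ab T :=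
  PresheafOfModules.presheaf (R := O.obj ⋙ forget₂ CommRingCat RingCat) P

/-- Stalks of presheaves of modules. -/
noncomputable abbrev stalkPObj (P : PMod O) : ModuleCat.{u} (stk O x) :=
  ModuleCat.of (stk O x)
    ↑(TopCat.Presheaf.stalk (absP P) x)

/-- The germ of a section. -/
noncomputable def germP (P : PMod O) (U : Opens T) (hx : x ∈ U) (s : P.obj (op U)) :
    stalkPObj x P :=
  TopCat.Presheaf.germ (absP P) U x hx s

variable {x}

lemma germP_add (P : PMod O) (U : Opens T) (hx : x ∈ U) (s t : P.obj (op U)) :
    germP x P U hx (s + t) = germP x P U hx s + germP x P U hx t :=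
  map_add _ s t

lemma germP_zero (P : PMod O) (U : Opens T) (hx : x ∈ U) :
    germP x P U hx 0 = 0 :=
  map_zero (TopCat.Presheaf.germ (absP P) U x hx).hom

lemma germP_smul (P : PMod O) (U : Opens T) (hx : x ∈ U) (r : O.obj.obj (op U))
    (s : P.obj (op U)) :
    germP x P U hx (r • s) = TopCat.Presheaf.germ O.obj U x hx r • germP x P U hx s :=
  PresheafOfModules.germ_smul (R := O.obj) P x U hx r s

lemma germP_res (P : PMod O) {U V : Opens T} (i : V ⟶ U) (hx : x ∈ V) (s : P.obj (op U)) :
    germP x P V hx (P.map i.op s) = germP x P U (i.le hx) s :=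
  TopCat.Presheaf.germ_res_apply (absP P) i x hx s

lemma exists_germP_eq (P : PMod O) (m : stalkPObj x P) :
    ∃ (U : Opens T) (hx : x ∈ U) (s : P.obj (op U)), germP x P U hx s = m :=
  by
  obtain ⟨U, hU, s, hs⟩ := TopCat.Presheaf.exists_germ_eq (absP P) (x := x) (show (absP P).stalk x from m)
  exact ⟨U, hU, s, hs⟩

lemma germP_eq_iff (P : PMod O) {U V : Opens T} (hU : x ∈ U) (hV : x ∈ V) (s : P.obj (op U))
    (t : P.obj (op V)) (h : germP x P U hU s = germP x P V hV t) :
    ∃ (W : Opens T) (_ : x ∈ W) (iU : W ⟶ U) (iV : W ⟶ V), P.map iU.op s = P.map iV.op t :=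
  by
  obtain ⟨W, hW, iU, iV, he⟩ := TopCat.Presheaf.germ_eq (absP P) x hU hV
    (show ToType ((absP P).obj (op U)) from s) (show ToType ((absP P).obj (op V)) from t) h
  exact ⟨W, hW, iU, iV, he⟩

lemma stalkFun_germP {P Q : PMod O} (φ : P ⟶ Q) (U : Opens T) (hx : x ∈ U)
    (s : P.obj (op U)) :
    (TopCat.Presheaf.stalkFunctor Ab x).map
      (show absP P ⟶ absP Q from (PresheafOfModules.toPresheaf _).map φ) (germP x P U hx s) =
      germP x Q U hx (φ.app (op U) s) :=
  TopCat.Presheaf.stalkFunctor_map_germ_apply U x hx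
    (show absP P ⟶ absP Q from (PresheafOfModules.toPresheaf _).map φ) s

set_option maxHeartbeats 1000000 in
lemma stalkFun_smul {P Q : PMod O} (φ : P ⟶ Q) (r : stk O x) (m : stalkPObj x P) :
    (TopCat.Presheaf.stalkFunctor Ab x).map
      (show absP P ⟶ absP Q from (PresheafOfModules.toPresheaf _).map φ) (r • m) =
      r • (show stalkPObj x Q from (TopCat.Presheaf.stalkFunctor Ab x).map
        (show absP P ⟶ absP Q from (PresheafOfModules.toPresheaf _).map φ) m) := by
  obtain ⟨U, hU, r, rfl⟩ := TopCat.Presheaf.exists_germ_eq O.obj (x := x) r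
  obtain ⟨V, hV, s, rfl⟩ := exists_germP_eq P m
  rw [← TopCat.Presheaf.germ_res_apply O.obj (Opens.infLELeft U V) x ⟨hU, hV⟩ r,
    ← germP_res P (Opens.infLERight U V) ⟨hU, hV⟩ s, ← germP_smul]
  rw [stalkFun_germP, stalkFun_germP]
  rw [← germP_smul]
  exact congrArg (germP x Q (U ⊓ V) ⟨hU, hV⟩) (map_smul (φ.app (op (U ⊓ V))).hom
    (O.obj.map (Opens.infLELeft U V).op r) (P.map (Opens.infLERight U V).op s))

variable (x)

/-- Stalks of presheaves of modules, as a functor. -/
noncomputable def stalkP : PMod O ⥤ ModuleCat.{u} (stk O x) where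
  obj := stalkPObj x
  map {P Q} φ := ModuleCat.ofHom
    { toFun := (TopCat.Presheaf.stalkFunctor Ab x).map (show absP P ⟶ absP Q from (PresheafOfModules.toPresheaf _).map φ)
      map_add' := fun a b => map_add _ a b
      map_smul' := stalkFun_smul φ }
  map_id P := by
    refine ModuleCat.hom_ext (LinearMap.ext fun m => ?_)
    obtain ⟨U, hU, s, rfl⟩ := exists_germP_eq P m
    exact stalkFun_germP (𝟙 P) U hU s
  map_comp {P Q R} φ ψ := by
    refine ModuleCat.hom_ext (LinearMap.ext fun m => ?_)
    obtain ⟨U, hU, s, rfl⟩ := exists_germP_eq P m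
    refine (stalkFun_germP (φ ≫ ψ) U hU s).trans ?_
    refine Eq.trans ?_ (congrArg _ (stalkFun_germP φ U hU s)).symm
    exact (stalkFun_germP ψ U hU _).symm

variable {x}

lemma stalkP_map_germP {P Q : PMod O} (φ : P ⟶ Q) (U : Opens T) (hx : x ∈ U)
    (s : P.obj (op U)) :
    (stalkP x).map φ (germP x P U hx s) = germP x Q U hx (φ.app (op U) s) :=
  stalkFun_germP φ U hx s

lemma stalkP_hom_ext {P : PMod O} {A : ModuleCat.{u} (stk O x)}
    {f g : (stalkP x).obj P ⟶ A}
    (h : ∀ (U : Opens T) (hx : x ∈ U) (s : P.obj (op U)), f (germP x P U hx s) = g (germP x P U hx s)) :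
    f = g := by
  refine ModuleCat.hom_ext (LinearMap.ext fun m => ?_)
  obtain ⟨U, hU, s, rfl⟩ := exists_germP_eq P m
  exact h U hU s

/-- The action of sections on a stalk module. -/
noncomputable abbrev fibModule (A : ModuleCat.{u} (stk O x)) (U : Opens T) (h : x ∈ U) :
    Module (O.obj.obj (op U)) A :=
  Module.compHom A (TopCat.Presheaf.germ O.obj U x h).hom

/-- Sections of the skyscraper module. -/
def SkySec (A : ModuleCat.{u} (stk O x)) (U : Opens T) : Type u := PLift (x ∈ U) → A

noncomputable instance (A : ModuleCat.{u} (stk O x)) (U : Opens T) :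
    AddCommGroup (SkySec A U) :=
  inferInstanceAs (AddCommGroup (PLift (x ∈ U) → A))

noncomputable instance skySecModule (A : ModuleCat.{u} (stk O x)) (U : Opens T) :
    Module (O.obj.obj (op U)) (SkySec A U) :=
  letI : ∀ h : PLift (x ∈ U), Module (O.obj.obj (op U)) A := fun h => fibModule A U h.down
  inferInstanceAs (Module (O.obj.obj (op U)) (PLift (x ∈ U) → A))

/-- Sections of the skyscraper module, bundled. -/
noncomputable abbrev skyObj (A : ModuleCat.{u} (stk O x)) (U : Opens T) :
    ModuleCat.{u} (O.obj.obj (op U)) :=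
  ModuleCat.of _ (SkySec A U)

/-- Value of a skyscraper section. -/
def sval {A : ModuleCat.{u} (stk O x)} {U : Opens T} (s : SkySec A U) (h : x ∈ U) : A :=
  (show PLift (x ∈ U) → A from s) ⟨h⟩

/-- Constructor for skyscraper sections. -/
def smk {A : ModuleCat.{u} (stk O x)} {U : Opens T} (f : x ∈ U → A) : SkySec A U :=
  show PLift (x ∈ U) → A from fun h => f h.down

lemma sval_ext {A : ModuleCat.{u} (stk O x)} {U : Opens T} {s t : SkySec A U}
    (h : ∀ hx, sval s hx = sval t hx) : s = t :=
  funext fun hx => h hx.down

@[simp] lemma sval_smk {A : ModuleCat.{u} (stk O x)} {U : Opens T} (f : x ∈ U → A)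
    (h : x ∈ U) : sval (smk f) h = f h := rfl

@[simp] lemma sval_add {A : ModuleCat.{u} (stk O x)} {U : Opens T} (s t : SkySec A U)
    (h : x ∈ U) : sval (s + t) h = sval s h + sval t h := rfl

@[simp] lemma sval_zero {A : ModuleCat.{u} (stk O x)} {U : Opens T}
    (h : x ∈ U) : sval (0 : SkySec A U) h = 0 := rfl

@[simp] lemma sval_smul (A : ModuleCat.{u} (stk O x)) (U : Opens T)
    (r : O.obj.obj (op U)) (s : SkySec A U) (h : x ∈ U) :
    sval (r • s) h = TopCat.Presheaf.germ O.obj U x h r • sval s h := rfl

/-- The skyscraper presheaf of modules. -/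
noncomputable def skyPObj (A : ModuleCat.{u} (stk O x)) : PMod O where
  obj U := skyObj A U.unop
  map {U V} i := ModuleCat.ofHom (X := skyObj A U.unop)
    (Y := (ModuleCat.restrictScalars ((O.obj ⋙ forget₂ CommRingCat RingCat).map i).hom).obj (skyObj A V.unop))
    { toFun := fun (s : skyObj A U.unop) => smk fun h => sval s (i.unop.le h)
      map_add' := fun _ _ => rfl
      map_smul' := fun r s => sval_ext fun h => by
        change TopCat.Presheaf.germ O.obj U.unop x (i.unop.le h) r • sval (A := A) s (i.unop.le h) =
          TopCat.Presheaf.germ O.obj V.unop x h (O.obj.map i r) • sval (A := A) s (i.unop.le h)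
        erw [TopCat.Presheaf.germ_res_apply O.obj i.unop x h r] }
  map_id _ := rfl
  map_comp _ _ := rfl

variable (x) in
/-- The skyscraper functor to presheaves of modules. -/
noncomputable def skyP : ModuleCat.{u} (stk O x) ⥤ PMod O where
  obj := skyPObj
  map {A B} g :=
    { app := fun U => ModuleCat.ofHom
        { toFun := fun (s : skyObj A U.unop) => (smk fun h => g (sval s h) : skyObj B U.unop)
          map_add' := fun s t => sval_ext fun h => map_add g.hom (sval s h) (sval t h)
          map_smul' := fun r s => sval_ext fun h =>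
            g.hom.map_smul (TopCat.Presheaf.germ O.obj U.unop x h r) (sval s h) }
      naturality := fun _ => rfl }
  map_id _ := rfl
  map_comp _ _ := rfl

/-- Application of a map into a skyscraper. -/
noncomputable abbrev appS {P : PMod O} {A : ModuleCat.{u} (stk O x)}
    (φ : P ⟶ (skyP x).obj A) (U : Opens T) (s : P.obj (op U)) : SkySec A U := φ.app (op U) s

/-- Cocone for descending a map into a skyscraper to the stalk. -/
noncomputable def descFun {P : PMod O} {A : ModuleCat.{u} (stk O x)}
    (φ : P ⟶ (skyP x).obj A) :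
    TopCat.Presheaf.stalk (absP P) x ⟶
      AddCommGrpCat.of A :=
  colimit.desc _
    { pt := AddCommGrpCat.of A
      ι :=
        { app := fun U => AddCommGrpCat.ofHom
            { toFun := fun s => sval (appS φ U.unop.1 s) U.unop.2
              map_zero' := by
                change sval (appS φ U.unop.1 0) U.unop.2 = 0
                rw [show appS φ U.unop.1 0 = 0 from map_zero (φ.app (op U.unop.1)).hom]
                rfl
              map_add' := fun a b => by
                change sval (appS φ U.unop.1 (a + b)) U.unop.2 = _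
                rw [show appS φ U.unop.1 (a + b) = appS φ U.unop.1 a + appS φ U.unop.1 b from map_add (φ.app (op U.unop.1)).hom a b]
                rfl }
          naturality := fun U V i => by
            ext s
            exact congrArg (fun t => sval (A := A) (U := V.unop.1) t V.unop.2)
              (PresheafOfModules.naturality_apply φ ((OpenNhds.inclusion x).op.map i) s) } }

lemma descFun_germP {P : PMod O} {A : ModuleCat.{u} (stk O x)}
    (φ : P ⟶ (skyP x).obj A) (U : Opens T) (hx : x ∈ U) (s : P.obj (op U)) :
    descFun φ (germP x P U hx s) = sval (appS φ U s) hx := by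
  change ((TopCat.Presheaf.germ _ U x hx) ≫ descFun φ) s = _
  dsimp only [TopCat.Presheaf.germ, descFun]
  erw [colimit.ι_desc]
  rfl

/-- The linear map out of the stalk. -/
noncomputable def descLin {P : PMod O} {A : ModuleCat.{u} (stk O x)}
    (φ : P ⟶ (skyP x).obj A) : (stalkP x).obj P ⟶ A :=
  ModuleCat.ofHom
    { toFun := descFun φ
      map_add' := fun a b => map_add _ a b
      map_smul' := fun r m => by
        obtain ⟨U, hU, r, rfl⟩ := TopCat.Presheaf.exists_germ_eq O.obj (x := x) r
        obtain ⟨V, hV, s, rfl⟩ := exists_germP_eq P m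
        rw [← TopCat.Presheaf.germ_res_apply O.obj (Opens.infLELeft U V) x ⟨hU, hV⟩ r,
          ← germP_res P (Opens.infLERight U V) ⟨hU, hV⟩ s, ← germP_smul]
        simp only [RingHom.id_apply]
        rw [descFun_germP, descFun_germP]
        exact congrArg (fun t : SkySec A (U ⊓ V) => sval t ⟨hU, hV⟩) (map_smul (φ.app (op (U ⊓ V))).hom
          (O.obj.map (Opens.infLELeft U V).op r) (P.map (Opens.infLERight U V).op s)) }

/-- The map into a skyscraper adjoint to a map out of the stalk. -/
noncomputable def liftSky {P : PMod O} {A : ModuleCat.{u} (stk O x)}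
    (g : (stalkP x).obj P ⟶ A) : P ⟶ (skyP x).obj A where
  app U := ModuleCat.ofHom (X := P.obj U) (Y := ((skyP x).obj A).obj U)
    { toFun := fun s => smk fun h => g (germP x P U.unop h s)
      map_add' := fun s t => sval_ext fun h => by
        change g (germP x P U.unop h (s + t)) = g (germP x P U.unop h s) + g (germP x P U.unop h t)
        rw [germP_add]
        exact map_add g.hom _ _
      map_smul' := fun r s => sval_ext fun h => by
        change g (germP x P U.unop h (r • s)) = TopCat.Presheaf.germ O.obj U.unop x h r • g (germP x P U.unop h s)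
        rw [← g.hom.map_smul]
        exact congrArg g (germP_smul P U.unop h r s) }
  naturality {U V} i := by
    refine ModuleCat.hom_ext (LinearMap.ext fun s => sval_ext fun h => ?_)
    exact congrArg g (germP_res P i.unop h s)

variable (x) in
/-- Stalk is left adjoint to skyscraper. -/
noncomputable def stalkSkyAdj : stalkP (O := O) x ⊣ skyP (O := O) x :=
  Adjunction.mkOfHomEquiv
    { homEquiv := fun P A =>
        { toFun := liftSky
          invFun := descLin
          left_inv := fun g => stalkP_hom_ext fun U hU s => (descFun_germP (liftSky g) U hU s).trans rfl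
          right_inv := fun φ => PresheafOfModules.hom_ext fun U =>
            ModuleCat.hom_ext (LinearMap.ext fun s => sval_ext fun h => (descFun_germP φ U.unop h s :)) }
      homEquiv_naturality_left_symm := fun {P Q A} f g => stalkP_hom_ext fun U hU s => by
        change descFun (f ≫ g) (germP x P U hU s) = descFun g ((stalkP x).map f (germP x P U hU s))
        rw [stalkP_map_germP, descFun_germP, descFun_germP]
        rfl
      homEquiv_naturality_right := fun {P A B} f g => rfl }

/-- The skyscraper is a sheaf. -/
theorem isSheaf_sky (A : ModuleCat.{u} (stk O x)) :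
    TopCat.Presheaf.IsSheaf (PresheafOfModules.presheaf (R := O.obj ⋙ forget₂ CommRingCat RingCat) ((skyP x).obj A)) := by
  classical
  rw [TopCat.Presheaf.isSheaf_iff_isSheafUniqueGluing]
  intro ι U sf hsf
  have key : ∀ (i j : ι) (hi : x ∈ U i) (hj : x ∈ U j),
      sval (A := A) (U := U i) (sf i) hi = sval (A := A) (U := U j) (sf j) hj := fun i j hi hj =>
    congrArg (fun t => sval (A := A) (U := U i ⊓ U j) t ⟨hi, hj⟩) (hsf i j)
  refine ⟨(smk fun h => sval (A := A) (U := U (Opens.mem_iSup.1 h).choose) (sf _) (Opens.mem_iSup.1 h).choose_spec :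
    skyObj A (iSup U)), fun i => sval_ext (A := A) (U := U i) fun h => key _ i _ h,
    fun t ht => sval_ext (A := A) (U := iSup U) fun h => ?_⟩
  obtain ⟨i, hi⟩ := Opens.mem_iSup.1 h
  exact (congrArg (fun t => sval (A := A) (U := U i) t hi) (ht i)).trans (key _ _ _ _)

/-- The underlying presheaf of modules. -/
noncomputable abbrev toP (O : Sheaf (Opens.grothendieckTopology T) CommRingCat.{u}) : ModSite.Mod O ⥤ PMod O :=
  SheafOfModules.forget.{u} (ModSite.ringSh O)

variable (x) in
/-- The skyscraper module. -/
noncomputable def sky : ModuleCat.{u} (stk O x) ⥤ ModSite.Mod O where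
  obj A := ⟨(skyP x).obj A, isSheaf_sky A⟩
  map g := ⟨(skyP x).map g⟩
  map_id _ := rfl
  map_comp _ _ := rfl

variable (O) in
/-- The stalk of a module. -/
noncomputable def stalkF (x : T) : ModSite.Mod O ⥤ ModuleCat.{u} (stk O x) :=
  toP O ⋙ stalkP x

variable (O) in
/-- Stalk is left adjoint to skyscraper. -/
noncomputable def stalkAdj (x : T) : stalkF O x ⊣ sky (O := O) x :=
  (stalkSkyAdj x).restrictFullyFaithful (iC := toP O) (iD := 𝟭 _) (L := stalkF O x) (R := sky x)
    (SheafOfModules.fullyFaithfulForget.{u} (ModSite.ringSh O))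
    (Functor.FullyFaithful.id _)
    (Functor.rightUnitor _).symm
    (Functor.leftUnitor _ ≪≫ (NatIso.ofComponents (fun _ => Iso.refl _) fun _ => rfl : sky x ⋙ toP O ≅ skyP x).symm)

end Groth.Agent.RSpace
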